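import Mathlib

/-!
# Flatness descends along universally injective ring maps

For `R → S` pure the dual of `R → S` has a linear section; this makes `δ s = s ⊗ 1 - 1 ⊗ s` pure on
the kernels of `X ⊗ I → X`, which gives the descent of flatness.
-/

set_option autoImplicit false
set_option backward.isDefEq.respectTransparency false

noncomputable section

universe u

open TensorProduct Function LinearMap

namespace Groth.Agent.PureDescent

variable {R : Type u} [CommRing R] {S : Type u} [CommRing S] [Algebra R S]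

/-- purity of `R → S` -/
def IsPure (R S : Type u) [CommRing R] [CommRing S] [Algebra R S] : Prop :=
  ∀ (P : Type u) [AddCommGroup P] [Module R P], Injective fun p : P => (1 : S) ⊗ₜ[R] p

/-- injective `S`-linear maps stay injective after `- ⊗[R] M` when `S ⊗[R] M` is flat -/
theorem injective_rTensor (M : Type u) [AddCommGroup M] [Module R M] [Module.Flat S (S ⊗[R] M)]
    {X Y : Type u} [AddCommGroup X] [Module R X] [Module S X] [IsScalarTower R S X]
    [AddCommGroup Y] [Module R Y] [Module S Y] [IsScalarTower R S Y] (g : X →ₗ[S] Y) (hg : Injective g) :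
    Injective ((g.restrictScalars R).rTensor M) := by
  have h := Module.Flat.rTensor_preserves_injective_linearMap (M := S ⊗[R] M) g hg
  let eX := AlgebraTensorModule.cancelBaseChange R S S X M
  let eY := AlgebraTensorModule.cancelBaseChange R S S Y M
  have hnat : ∀ z, (g.restrictScalars R).rTensor M (eX z) = eY (g.rTensor (S ⊗[R] M) z) := by
    intro z
    induction z with
    | zero => simp
    | add a b ha hb => simp only [map_add, ha, hb]
    | tmul x w =>
      induction w with
      | zero => simp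
      | add a b ha hb => simp only [tmul_add, map_add, ha, hb]
      | tmul c b => simp [eX, eY]
  intro z z' hz
  obtain ⟨z, rfl⟩ := eX.surjective z
  obtain ⟨z', rfl⟩ := eX.surjective z'
  rw [hnat, hnat] at hz
  rw [h (eY.injective hz)]

/-- kernels of `S`-linear maps commute with `- ⊗[R] M` -/
theorem exists_of_rTensor_eq_zero (M : Type u) [AddCommGroup M] [Module R M] [Module.Flat S (S ⊗[R] M)]
    {X Y : Type u} [AddCommGroup X] [Module R X] [Module S X] [IsScalarTower R S X]
    [AddCommGroup Y] [Module R Y] [Module S Y] [IsScalarTower R S Y] (F : X →ₗ[S] Y) {x : X ⊗[R] M}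
    (hx : (F.restrictScalars R).rTensor M x = 0) :
    ∃ z : LinearMap.ker F ⊗[R] M, ((LinearMap.ker F).subtype.restrictScalars R).rTensor M z = x := by
  have he : Exact ((LinearMap.ker F).subtype.restrictScalars R) (F.rangeRestrict.restrictScalars R) := by
    intro x
    change F.rangeRestrict x = 0 ↔ x ∈ Set.range (LinearMap.ker F).subtype
    rw [← LinearMap.mem_ker, LinearMap.ker_rangeRestrict]
    exact ⟨fun h => ⟨⟨x, h⟩, rfl⟩, fun ⟨k, hk⟩ => hk ▸ k.2⟩
  have hs : Surjective (F.rangeRestrict.restrictScalars R) := F.surjective_rangeRestrict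
  refine (rTensor_exact M he hs x).1 ?_
  refine injective_rTensor M (X := LinearMap.range F) (Y := Y) (LinearMap.range F).subtype Subtype.val_injective ?_
  rw [map_zero, ← LinearMap.rTensor_comp_apply]
  exact hx

section Dual

variable {I : Ideal R}

variable (R S) in
/-- multiplication `x ⊗ i ↦ i • x` -/
def mulI (X : Type u) [AddCommGroup X] [Module R X] [Module S X] [IsScalarTower R S X] (I : Ideal R) :
    X ⊗[R] I →ₗ[S] X :=
  (AlgebraTensorModule.rid R S X).toLinearMap ∘ₗ AlgebraTensorModule.lTensor S X I.subtype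

theorem mulI_tmul {X : Type u} [AddCommGroup X] [Module R X] [Module S X] [IsScalarTower R S X]
    (x : X) (i : I) : mulI R S X I (x ⊗ₜ[R] i) = (i : R) • x := by
  simp [mulI]

variable {X X' : Type u} [AddCommGroup X] [Module R X] [AddCommGroup X'] [Module R X']

/-- apply a map of character modules factorwise -/
def app (ρ : CharacterModule X →ₗ[R] CharacterModule X') :
    CharacterModule (X ⊗[R] I) →ₗ[R] CharacterModule (X' ⊗[R] I) :=
  CharacterModule.dual (TensorProduct.comm R X' I).toLinearMap ∘ₗ CharacterModule.uncurry ∘ₗ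
    LinearMap.llcomp R I _ _ ρ ∘ₗ CharacterModule.curry ∘ₗ
    CharacterModule.dual (TensorProduct.comm R I X).toLinearMap

theorem app_tmul (ρ : CharacterModule X →ₗ[R] CharacterModule X') (Ψ : CharacterModule (X ⊗[R] I)) (x' : X') (i : I) :
    app ρ Ψ (x' ⊗ₜ[R] i) =
      ρ (CharacterModule.curry (CharacterModule.dual (TensorProduct.comm R I X).toLinearMap Ψ) i) x' := rfl

theorem curry_comm (Ψ : CharacterModule (X ⊗[R] I)) (i : I) (x : X) :
    CharacterModule.curry (CharacterModule.dual (TensorProduct.comm R I X).toLinearMap Ψ) i x =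
      Ψ (x ⊗ₜ[R] i) := rfl

/-- two characters of `X ⊗ I` agree if they agree on pure tensors -/
theorem ext_tmul {Φ Ψ : CharacterModule (X ⊗[R] I)} (h : ∀ x i, Φ (x ⊗ₜ[R] i) = Ψ (x ⊗ₜ[R] i)) : Φ = Ψ :=
  CharacterModule.ext _ fun z => by
    induction z with
    | zero => simp
    | add a b ha hb => simp [ha, hb]
    | tmul x i => exact h x i

theorem app_dual_mulI [Module S X] [IsScalarTower R S X] [Module S X'] [IsScalarTower R S X']
    (ρ : CharacterModule X →ₗ[R] CharacterModule X') (ω : CharacterModule X) :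
    app ρ (CharacterModule.dual ((mulI R S X I).restrictScalars R) ω) =
      CharacterModule.dual ((mulI R S X' I).restrictScalars R) (ρ ω) := by
  refine ext_tmul fun x' i => ?_
  rw [app_tmul]
  show _ = ρ ω (mulI R S X' I (x' ⊗ₜ[R] i))
  rw [mulI_tmul, ← CharacterModule.smul_apply, ← map_smul]
  congr 2

end Dual

/-- characters vanishing on a kernel factor through the map -/
theorem exists_dual_eq {A B : Type u} [AddCommGroup A] [Module R A] [AddCommGroup B] [Module R B]
    (f : A →ₗ[R] B) (Ψ : CharacterModule A) (h : ∀ a, f a = 0 → Ψ a = 0) :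
    ∃ ω : CharacterModule B, CharacterModule.dual f ω = Ψ := by
  let Ψ₀ : CharacterModule (LinearMap.range f) :=
    f.rangeRestrict.toAddMonoidHom.liftOfSurjective f.surjective_rangeRestrict ⟨Ψ, fun a ha => h a (congrArg Subtype.val ha)⟩
  obtain ⟨ω, hω⟩ := CharacterModule.dual_surjective_of_injective (LinearMap.range f).subtype
    Subtype.val_injective Ψ₀
  refine ⟨ω, CharacterModule.ext _ fun a => ?_⟩
  show ω (f a) = Ψ a
  have h2 : ω (f a) = Ψ₀ (f.rangeRestrict a) := (DFunLike.congr_fun hω (f.rangeRestrict a))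
  exact h2.trans (AddMonoidHom.liftOfRightInverse_comp_apply _ _ _ ⟨Ψ, _⟩ a)

/-- a linear lift of characters makes a map of submodules pure injective -/
theorem injective_rTensor_of_lift {A B M : Type u} [AddCommGroup A] [Module R A] [AddCommGroup B] [Module R B]
    [AddCommGroup M] [Module R M] (K : Submodule R A) (K' : Submodule R B) (g : K →ₗ[R] K')
    (t : CharacterModule A →ₗ[R] CharacterModule B)
    (h1 : ∀ Ψ : CharacterModule A, (∀ w : K, Ψ w = 0) → ∀ w' : K', t Ψ w' = 0)
    (h2 : ∀ (Ψ : CharacterModule A) (w : K), t Ψ (g w) = Ψ w) : Injective (g.rTensor M) := by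
  let r := CharacterModule.dual K.subtype
  have hr : Surjective r := CharacterModule.dual_surjective_of_injective _ Subtype.val_injective
  let t' := CharacterModule.dual K'.subtype ∘ₗ t
  have hker : LinearMap.ker r ≤ LinearMap.ker t' := fun Ψ hΨ =>
    CharacterModule.ext _ fun w' => h1 Ψ (fun w => DFunLike.congr_fun hΨ w) w'
  let s : CharacterModule K →ₗ[R] CharacterModule K' :=
    (LinearMap.ker r).liftQ t' hker ∘ₗ (r.quotKerEquivOfSurjective hr).symm.toLinearMap
  have hs : ∀ φ (w : K), s φ (g w) = φ w := by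
    intro φ w
    obtain ⟨Ψ, rfl⟩ := hr φ
    have h3 : s (r Ψ) = t' Ψ := by
      show (LinearMap.ker r).liftQ t' hker ((r.quotKerEquivOfSurjective hr).symm (r Ψ)) = t' Ψ
      rw [show (r.quotKerEquivOfSurjective hr).symm (r Ψ) = Submodule.Quotient.mk Ψ from
        (LinearEquiv.symm_apply_eq _).mpr rfl]
      rfl
    rw [h3]
    exact h2 Ψ w
  rw [injective_iff_map_eq_zero]
  intro y hy
  refine CharacterModule.eq_zero_of_character_apply fun Φ => ?_
  let Φ' : M →ₗ[R] CharacterModule K :=
    CharacterModule.curry (CharacterModule.dual (TensorProduct.comm R M K).toLinearMap Φ)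
  let Φ₁ := CharacterModule.dual (TensorProduct.comm R K' M).toLinearMap (CharacterModule.uncurry (s ∘ₗ Φ'))
  have key : ∀ y, Φ₁ (g.rTensor M y) = Φ y := by
    intro y
    induction y with
    | zero => simp
    | add a b ha hb => simp only [map_add, ha, hb]
    | tmul w m => exact hs (Φ' m) w
  rw [← key, hy, map_zero]

/-- flatness descends along pure ring maps -/
theorem flat_of_isPure (hpure : IsPure R S) (M : Type u) [AddCommGroup M] [Module R M]
    [Module.Flat S (S ⊗[R] M)] : Module.Flat R M := by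
  refine Module.Flat.iff_rTensor_injective'.mpr fun I => (injective_iff_map_eq_zero _).mpr fun z hz => ?_
  let ev : CharacterModule (CharacterModule R) :=
    { toFun := fun φ => φ (1 : R)
      map_zero' := rfl
      map_add' := fun _ _ => rfl }
  obtain ⟨χ, hχ⟩ := CharacterModule.dual_surjective_of_injective
    ((TensorProduct.mk R (CharacterModule R) S).flip 1) (fun a b hab => hpure (CharacterModule R) (by
      simpa using congrArg (TensorProduct.comm R (CharacterModule R) S) hab)) ev
  let σ₀ : CharacterModule R →ₗ[R] CharacterModule S := CharacterModule.curry χ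
  have hσ₀ : ∀ φ, σ₀ φ 1 = φ 1 := fun φ => DFunLike.congr_fun hχ φ
  -- the section of the dual of `n ↦ n ⊗ 1` for `N = S`
  let ρ : CharacterModule S →ₗ[R] CharacterModule (S ⊗[R] S) :=
    CharacterModule.uncurry ∘ₗ LinearMap.llcomp R S _ _ σ₀ ∘ₗ CharacterModule.curry ∘ₗ
      CharacterModule.dual (TensorProduct.rid R S).toLinearMap
  let alg : R →ₗ[R] S := Algebra.linearMap R S
  have hρ : ∀ φ (a b : S), ρ φ (a ⊗ₜ[R] b) = σ₀ (CharacterModule.curry
      (CharacterModule.dual (TensorProduct.rid R S).toLinearMap φ) a) b := fun _ _ _ => rfl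
  let δ : S →ₗ[R] S ⊗[R] S := (TensorProduct.mk R S S).flip 1 - TensorProduct.mk R S S 1
  have hδ1 : δ 1 = 0 := sub_self ((1 : S) ⊗ₜ[R] (1 : S))
  have hδρ : ∀ φ, CharacterModule.dual δ (ρ φ) = φ - σ₀ (CharacterModule.dual alg φ) := by
    intro φ
    refine CharacterModule.ext _ fun a => ?_
    show ρ φ (a ⊗ₜ[R] (1 : S) - (1 : S) ⊗ₜ[R] a) = φ a - σ₀ (CharacterModule.dual alg φ) a
    rw [map_sub, hρ, hρ, hσ₀]
    congr 1
    · show φ (TensorProduct.rid R S (a ⊗ₜ[R] (1 : R))) = φ a
      rw [TensorProduct.rid_tmul, one_smul]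
    · congr 2
      ext r
      show φ (TensorProduct.rid R S ((1 : S) ⊗ₜ[R] r)) = φ (algebraMap R S r)
      rw [TensorProduct.rid_tmul, Algebra.algebraMap_eq_smul_one]
  let μ := mulI R S S I
  let μ' := mulI R S (S ⊗[R] S) I
  let K : Submodule R (S ⊗[R] I) := (LinearMap.ker μ).restrictScalars R
  let K' : Submodule R ((S ⊗[R] S) ⊗[R] I) := (LinearMap.ker μ').restrictScalars R
  have hcomm : ∀ w, μ' (δ.rTensor I w) = δ (μ w) := by
    intro w
    induction w with
    | zero => simp
    | add a b ha hb => simp only [map_add, ha, hb]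
    | tmul x i => simp only [rTensor_tmul, μ, μ', mulI_tmul, map_smul]
  let g : K →ₗ[R] K' := (δ.rTensor I ∘ₗ K.subtype).codRestrict K' (fun w => by
    show μ' (δ.rTensor I w) = 0
    rw [hcomm, show μ (w : S ⊗[R] I) = 0 from w.2, map_zero])
  have hg : Injective (g.rTensor M) := by
    refine injective_rTensor_of_lift K K' g (app (I := I) ρ) (fun Ψ hΨ w' => ?_) fun Ψ w => ?_
    · obtain ⟨ω, rfl⟩ := exists_dual_eq (μ.restrictScalars R) Ψ fun a ha => hΨ ⟨a, ha⟩
      rw [app_dual_mulI]
      show ρ ω (μ' w') = 0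
      rw [show μ' (w' : (S ⊗[R] S) ⊗[R] I) = 0 from w'.2, map_zero]
    show app ρ Ψ (δ.rTensor I w) = Ψ w
    have hinj : ∀ y : R ⊗[R] I, mulI R R R I y = 0 → y = 0 := fun y hy => by
      obtain ⟨i, rfl⟩ := (TensorProduct.lid R I).symm.surjective y
      rw [TensorProduct.lid_symm_apply, mulI_tmul, smul_eq_mul, mul_one] at hy
      rw [show i = 0 from Subtype.ext hy, map_zero]
    obtain ⟨ω, hω⟩ := exists_dual_eq ((mulI R R R I).restrictScalars R)
      (CharacterModule.dual (alg.rTensor I) Ψ) fun a ha => by rw [hinj a ha, map_zero]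
    have h2 : CharacterModule.dual (δ.rTensor I) (app ρ Ψ) =
        Ψ - CharacterModule.dual (μ.restrictScalars R) (σ₀ ω) := by
      refine ext_tmul fun a i => ?_
      have e1 : app ρ Ψ (δ a ⊗ₜ[R] i) =
          ρ (CharacterModule.curry (CharacterModule.dual (TensorProduct.comm R I S).toLinearMap Ψ) i) (δ a) :=
        app_tmul ρ Ψ (δ a) i
      refine e1.trans ((DFunLike.congr_fun (hδρ _) a).trans ?_)
      show Ψ (a ⊗ₜ[R] i) - σ₀ _ a = Ψ (a ⊗ₜ[R] i) - σ₀ ω (μ (a ⊗ₜ[R] i))
      rw [show μ (a ⊗ₜ[R] i) = (i : R) • a from mulI_tmul a i, ← CharacterModule.smul_apply (σ₀ ω) (i : R) a, ← map_smul]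
      congr 3
      ext x
      rw [CharacterModule.smul_apply]
      have := DFunLike.congr_fun hω (x ⊗ₜ[R] i)
      exact this.symm.trans (congrArg ω (mulI_tmul (S := R) x i))
    refine (DFunLike.congr_fun h2 (w : S ⊗[R] I)).trans ?_
    show Ψ (w : S ⊗[R] I) - σ₀ ω (μ (w : S ⊗[R] I)) = Ψ (w : S ⊗[R] I)
    rw [show μ (w : S ⊗[R] I) = 0 from w.2, map_zero, sub_zero]
  -- diagram chase
  let ε : I ⊗[R] M →ₗ[R] (S ⊗[R] I) ⊗[R] M := (TensorProduct.mk R S I 1).rTensor M
  have hε : Injective ε := by
    intro a b hab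
    refine hpure (I ⊗[R] M) ?_
    have : ∀ c, TensorProduct.assoc R S I M (ε c) = (1 : S) ⊗ₜ[R] c := by
      intro c
      induction c with
      | zero => simp
      | add a b ha hb => simp only [map_add, tmul_add, ha, hb]
      | tmul i m => simp [ε]
    show (1 : S) ⊗ₜ[R] a = (1 : S) ⊗ₜ[R] b
    rw [← this, ← this, hab]
  have hμz : (μ.restrictScalars R).rTensor M (ε z) = 0 := by
    have : ∀ c, (μ.restrictScalars R).rTensor M (ε c) =
        (1 : S) ⊗ₜ[R] TensorProduct.lid R M ((I.subtype).rTensor M c) := by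
      intro c
      induction c with
      | zero => simp
      | add a b ha hb => simp only [map_add, tmul_add, ha, hb]
      | tmul i m => simp [ε, μ, mulI_tmul, TensorProduct.smul_tmul]
    rw [this, hz, map_zero, tmul_zero]
  obtain ⟨y, hy⟩ := exists_of_rTensor_eq_zero M μ hμz
  have hδε : (δ.rTensor I).rTensor M (ε z) = 0 := by
    rw [← LinearMap.rTensor_comp_apply, show δ.rTensor I ∘ₗ TensorProduct.mk R S I 1 = 0 from
      LinearMap.ext fun i => by simp [hδ1], LinearMap.rTensor_zero, LinearMap.zero_apply]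
  have hgy : (g.rTensor M) (y : K ⊗[R] M) = 0 := by
    refine injective_rTensor M (X := LinearMap.ker μ') (Y := (S ⊗[R] S) ⊗[R] I) (LinearMap.ker μ').subtype
      Subtype.val_injective ?_
    rw [map_zero]
    show (K'.subtype).rTensor M (g.rTensor M y) = 0
    rw [← LinearMap.rTensor_comp_apply, show K'.subtype ∘ₗ g = δ.rTensor I ∘ₗ K.subtype from rfl,
      LinearMap.rTensor_comp_apply]
    exact (congrArg _ hy).trans hδε
  have hy0 : (y : K ⊗[R] M) = 0 := hg (hgy.trans (map_zero _).symm)
  refine hε ?_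
  rw [map_zero, ← hy]
  exact (congrArg _ hy0).trans (map_zero _)

end Groth.Agent.PureDescent
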