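import Mathlib
import Groth.Prelude.Def_Pi1
import Groth.Agent.PureDescent.Flat

/-!
# Finiteness properties descend along universally injective ring maps
-/

set_option autoImplicit false
set_option backward.isDefEq.respectTransparency false

noncomputable section

universe u

open TensorProduct Function

namespace Groth.Agent.PureDescent

variable {R S : Type u} [CommRing R] [CommRing S] [Algebra R S]

theorem isPure_of_univInjective (h : Pi1.UnivInjective R S) : IsPure R S := fun P _ _ a b hab => by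
  have h1 := congrArg (TensorProduct.comm R S P) hab
  simp only [TensorProduct.comm_tmul] at h1
  have h2 : LinearMap.lTensor P (Algebra.linearMap R S) (a ⊗ₜ[R] (1 : R)) =
      LinearMap.lTensor P (Algebra.linearMap R S) (b ⊗ₜ[R] (1 : R)) := by simpa using h1
  simpa using congrArg (TensorProduct.rid R P) (h P h2)

/-- a finitely generated part of the span of `1 ⊗ T` needs finitely many elements of `T` -/
theorem exists_finset_span {P : Type u} [AddCommGroup P] [Module R P] (T : Set P)
    (W : Submodule S (S ⊗[R] P)) (hW : W.FG)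
    (hle : W ≤ Submodule.span S ((fun p => (1 : S) ⊗ₜ[R] p) '' T)) :
    ∃ s : Finset P, (s : Set P) ⊆ T ∧ W ≤ Submodule.span S ((fun p => (1 : S) ⊗ₜ[R] p) '' s) := by
  classical
  obtain ⟨g, rfl⟩ := hW
  have hx : ∀ x : g, ∃ s : Finset P, (s : Set P) ⊆ T ∧ (x : S ⊗[R] P) ∈ Submodule.span S ((fun p => (1 : S) ⊗ₜ[R] p) '' s) := by
    intro x
    obtain ⟨U, hU, hx⟩ := Submodule.mem_span_finite_of_mem_span (hle (Submodule.subset_span x.2))
    obtain ⟨s, hs, rfl⟩ := Finset.subset_set_image_iff.mp hU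
    exact ⟨s, hs, by simpa using hx⟩
  choose s hs hxs using hx
  refine ⟨Finset.univ.biUnion s, by simp [hs], Submodule.span_le.mpr fun x hxg => ?_⟩
  exact Submodule.span_mono (Set.image_mono fun p hp => by
    simp only [Finset.coe_biUnion, Finset.coe_univ, Set.mem_iUnion]
    exact ⟨⟨x, hxg⟩, Set.mem_univ _, hp⟩) (hxs ⟨x, hxg⟩)

theorem span_tmul_one_eq_top (P : Type u) [AddCommGroup P] [Module R P] :
    Submodule.span S ((fun p => (1 : S) ⊗ₜ[R] p) '' (Set.univ : Set P)) = ⊤ := by
  refine top_le_iff.mp fun z _ => ?_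
  induction z with
  | zero => exact zero_mem _
  | add a b ha hb => exact add_mem (ha trivial) (hb trivial)
  | tmul s p =>
    rw [← mul_one s, ← smul_eq_mul, ← TensorProduct.smul_tmul']
    exact Submodule.smul_mem _ _ (Submodule.subset_span ⟨p, trivial, rfl⟩)

/-- elements of `ker (S ⊗ p)` are combinations of `1 ⊗ k`, `k ∈ ker p` -/
theorem ker_baseChange_le {P M : Type u} [AddCommGroup P] [Module R P] [AddCommGroup M] [Module R M]
    (p : P →ₗ[R] M) (hp : Surjective p) :
    LinearMap.ker (p.baseChange S) ≤ Submodule.span S ((fun k => (1 : S) ⊗ₜ[R] k) '' (LinearMap.ker p : Set P)) := by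
  intro z hz
  obtain ⟨w, rfl⟩ := (lTensor_exact S (LinearMap.exact_subtype_ker_map p) hp z).1 hz
  clear hz
  induction w with
  | zero => simp
  | add a b ha hb => rw [map_add]; exact add_mem ha hb
  | tmul s k =>
    rw [LinearMap.lTensor_tmul, ← mul_one s, ← smul_eq_mul, ← TensorProduct.smul_tmul']
    exact Submodule.smul_mem _ _ (Submodule.subset_span ⟨k, k.2, rfl⟩)

/-- detect membership after base change -/
theorem mem_of_tmul_mem (hpure : IsPure R S) {P : Type u} [AddCommGroup P] [Module R P] (L : Submodule R P)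
    (s : Set P) (hs : s ⊆ L) {x : P} (hx : (1 : S) ⊗ₜ[R] x ∈ Submodule.span S ((fun p => (1 : S) ⊗ₜ[R] p) '' s)) :
    x ∈ L := by
  rw [← Submodule.Quotient.mk_eq_zero L]
  refine hpure (P ⧸ L) ?_
  show (1 : S) ⊗ₜ[R] L.mkQ x = (1 : S) ⊗ₜ[R] (0 : P ⧸ L)
  rw [tmul_zero, ← LinearMap.baseChange_tmul, ← LinearMap.mem_ker]
  refine (Submodule.span_le.mpr ?_) hx
  rintro _ ⟨p, hp, rfl⟩
  rw [SetLike.mem_coe, LinearMap.mem_ker, LinearMap.baseChange_tmul, Submodule.mkQ_apply,
    (Submodule.Quotient.mk_eq_zero L).mpr (hs hp), tmul_zero]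

theorem finite_of_isPure (hpure : IsPure R S) (M : Type u) [AddCommGroup M] [Module R M]
    [hM : Module.Finite S (S ⊗[R] M)] : Module.Finite R M := by
  obtain ⟨s, -, hs⟩ := exists_finset_span (S := S) (R := R) (Set.univ : Set M) ⊤ hM.fg_top
    (span_tmul_one_eq_top M).ge
  exact ⟨⟨s, eq_top_iff.mpr fun x _ => mem_of_tmul_mem hpure _ _ Submodule.subset_span (hs trivial)⟩⟩

theorem finitePresentation_of_isPure (hpure : IsPure R S) (M : Type u) [AddCommGroup M] [Module R M]
    [Module.FinitePresentation S (S ⊗[R] M)] : Module.FinitePresentation R M := by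
  haveI := finite_of_isPure (S := S) hpure M
  obtain ⟨n, p, hp⟩ := Module.Finite.exists_fin' R M
  have hk := Module.FinitePresentation.fg_ker (p.baseChange S) (LinearMap.lTensor_surjective S hp)
  obtain ⟨s, hsk, hs⟩ := exists_finset_span (LinearMap.ker p : Set (Fin n → R)) _ hk (ker_baseChange_le p hp)
  refine Module.finitePresentation_of_surjective p hp ⟨s, le_antisymm (Submodule.span_le.mpr hsk) fun x hx => ?_⟩
  refine mem_of_tmul_mem hpure _ _ Submodule.subset_span (hs ?_)
  rw [LinearMap.mem_ker, LinearMap.baseChange_tmul, show p x = 0 from hx, tmul_zero]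

theorem finiteType_of_isPure (hpure : IsPure R S) (A : Type u) [CommRing A] [Algebra R A]
    [hA : Algebra.FiniteType S (S ⊗[R] A)] : Algebra.FiniteType R A := by
  classical
  obtain ⟨g, hg⟩ := hA.out
  obtain ⟨s, -, hs⟩ := exists_finset_span (S := S) (R := R) (Set.univ : Set A)
    (Submodule.span S (g : Set (S ⊗[R] A))) ⟨g, rfl⟩ (le_top.trans (span_tmul_one_eq_top (R := R) (S := S) A).ge)
  let A₀ := Algebra.adjoin R (s : Set A)
  let φ : S ⊗[R] A₀ →ₐ[S] S ⊗[R] A := Algebra.TensorProduct.map (AlgHom.id S S) A₀.val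
  have hφ : Surjective φ := by
    rw [← AlgHom.range_eq_top, eq_top_iff, ← hg]
    refine Algebra.adjoin_le fun x hx => ?_
    have h1 : Submodule.span S ((fun p => (1 : S) ⊗ₜ[R] p) '' (s : Set A)) ≤ Subalgebra.toSubmodule φ.range := by
      rw [Submodule.span_le]
      rintro _ ⟨a, ha, rfl⟩
      exact ⟨1 ⊗ₜ[R] ⟨a, Algebra.subset_adjoin ha⟩, rfl⟩
    exact h1 (hs (Submodule.subset_span hx))
  refine ⟨⟨s, eq_top_iff.mpr fun a _ => ?_⟩⟩
  obtain ⟨w, hw⟩ := hφ (1 ⊗ₜ[R] a)
  refine mem_of_tmul_mem (R := R) (S := S) hpure (P := A) (Subalgebra.toSubmodule A₀) (A₀ : Set A) (fun x hx => hx) ?_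
  rw [← hw]
  clear hw
  induction w with
  | zero => simp
  | add a b ha hb => rw [map_add]; exact add_mem ha hb
  | tmul c b =>
    rw [show φ (c ⊗ₜ[R] b) = c • ((1 : S) ⊗ₜ[R] (b : A)) by simp [φ, TensorProduct.smul_tmul']]
    exact Submodule.smul_mem _ _ (Submodule.subset_span ⟨b, b.2, rfl⟩)

theorem algFinitePresentation_of_isPure (hpure : IsPure R S) (A : Type u) [CommRing A] [Algebra R A]
    [Algebra.FinitePresentation S (S ⊗[R] A)] : Algebra.FinitePresentation R A := by
  classical
  haveI := finiteType_of_isPure (S := S) hpure A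
  obtain ⟨n, p, hp⟩ := Algebra.FiniteType.iff_quotient_mvPolynomial''.mp ‹Algebra.FiniteType R A›
  let P := MvPolynomial (Fin n) R
  let pS : S ⊗[R] P →ₐ[S] S ⊗[R] A := Algebra.TensorProduct.map (AlgHom.id S S) p
  have hlin : ∀ z, pS z = p.toLinearMap.baseChange S z := fun z => by
    induction z with
    | zero => simp
    | add a b ha hb => simp [ha, hb]
    | tmul c b => rfl
  have hpS : Surjective pS := fun y => by
    obtain ⟨z, hz⟩ := LinearMap.lTensor_surjective S (g := p.toLinearMap) hp y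
    exact ⟨z, (hlin z).trans hz⟩
  obtain ⟨g, hg⟩ := Algebra.FinitePresentation.ker_fG_of_surjective pS hpS
  obtain ⟨s, hsk, hs⟩ := exists_finset_span (LinearMap.ker p.toLinearMap : Set P)
    (Submodule.span S (g : Set (S ⊗[R] P))) ⟨g, rfl⟩ (Submodule.span_le.mpr fun x hx =>
      ker_baseChange_le p.toLinearMap hp (by
        have : x ∈ RingHom.ker pS.toRingHom := hg ▸ Ideal.subset_span hx
        exact (hlin x).symm.trans this))
  let J : Ideal P := Ideal.span (s : Set P)
  refine Algebra.FinitePresentation.of_surjective hp ⟨s, le_antisymm (Ideal.span_le.mpr hsk) fun x hx => ?_⟩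
  let q : S ⊗[R] P →ₐ[S] S ⊗[R] (P ⧸ J) := Algebra.TensorProduct.map (AlgHom.id S S) (Ideal.Quotient.mkₐ R J)
  have hq : RingHom.ker pS.toRingHom ≤ RingHom.ker q.toRingHom := by
    rw [← hg]
    refine Ideal.span_le.mpr fun y hy => ?_
    have h1 : Submodule.span S ((fun p => (1 : S) ⊗ₜ[R] p) '' (s : Set P)) ≤ LinearMap.ker q.toLinearMap := by
      rw [Submodule.span_le]
      rintro _ ⟨k, hk, rfl⟩
      show q ((1 : S) ⊗ₜ[R] k) = 0
      rw [Algebra.TensorProduct.map_tmul, Ideal.Quotient.mkₐ_eq_mk,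
        Ideal.Quotient.eq_zero_iff_mem.mpr (Ideal.subset_span hk), tmul_zero]
    exact h1 (hs (Submodule.subset_span hy))
  refine Ideal.Quotient.eq_zero_iff_mem.mp (hpure (P ⧸ J) ?_)
  show (1 : S) ⊗ₜ[R] Ideal.Quotient.mk J x = (1 : S) ⊗ₜ[R] (0 : P ⧸ J)
  rw [tmul_zero]
  have h2 : q ((1 : S) ⊗ₜ[R] x) = 0 := hq (by
    show pS ((1 : S) ⊗ₜ[R] x) = 0
    rw [Algebra.TensorProduct.map_tmul, show p x = 0 from hx, tmul_zero])
  simpa [q] using h2

theorem formallyUnramified_of_isPure (hpure : IsPure R S) (A : Type u) [CommRing A] [Algebra R A]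
    [Algebra.FormallyUnramified S (S ⊗[R] A)] : Algebra.FormallyUnramified R A := by
  letI : Algebra A (S ⊗[R] A) := Algebra.TensorProduct.rightAlgebra
  haveI : Algebra.IsPushout R S A (S ⊗[R] A) := inferInstance
  let e := KaehlerDifferential.tensorKaehlerEquivBase R S A (S ⊗[R] A)
  haveI : Subsingleton (S ⊗[R] Ω[A⁄R]) := e.toEquiv.subsingleton
  exact ⟨⟨fun a b => hpure _ (Subsingleton.elim _ _)⟩⟩

theorem etale_of_isPure (hpure : IsPure R S) (A : Type u) [CommRing A] [Algebra R A]
    [Algebra.Etale S (S ⊗[R] A)] : Algebra.Etale R A := by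
  haveI := algFinitePresentation_of_isPure (S := S) hpure A
  haveI := formallyUnramified_of_isPure (S := S) hpure A
  haveI : Module.Flat R A := flat_of_isPure (S := S) hpure A
  exact Algebra.Etale.of_formallyUnramified_of_flat

end Groth.Agent.PureDescent
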